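import Cfsg.Agent.H901.KKL.NoCfg
import Cfsg.Prelude.Def_CaseTheorems

/-!
# S4546, row `PSL_n(q)`, `q` odd (helper901)
-/

set_option autoImplicit false

open Cfsg Cfsg.Agent.H613.KKL

namespace Cfsg.Agent.H901.KKL

theorem E_psl {F : Type} [Field F] [Fintype F] {p : ℕ} [Fact p.Prime] [CharP F p] (hp : p ≠ 2) (n : ℕ)
    (hn : 2 ≤ n) : NoCfg (Matrix.ProjectiveSpecialLinearGroup (Fin n) F) := by
  have hne : Nonempty (Fin n) := ⟨⟨0, by omega⟩⟩
  have hcyc : IsCyclic (QuotientGroup.mk' (Subgroup.center (Matrix.SpecialLinearGroup (Fin n) F))).ker := by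
    rw [QuotientGroup.ker_mk']
    exact isCyclic_of_surjective (Matrix.SpecialLinearGroup.center_equiv_rootsOfUnity (n := Fin n) (R := F)).symm
      (MulEquiv.surjective _)
  refine noCfg_of_norm (R := Matrix (Fin n) (Fin n) F) hp (X := Matrix.SpecialLinearGroup (Fin n) F)
    (π := QuotientGroup.mk' (Subgroup.center (Matrix.SpecialLinearGroup (Fin n) F)))
    (QuotientGroup.mk'_surjective _) (by rw [QuotientGroup.ker_mk']) hcyc
    (Matrix.SpecialLinearGroup.toGL (n := Fin n) (R := F)) ?_ ?_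
  · intro a b hab
    apply Subtype.ext
    exact congrArg (fun u : (Matrix (Fin n) (Fin n) F)ˣ => (u : Matrix (Fin n) (Fin n) F)) hab
  · intro _ _ _ e _ _ g
    refine ⟨⟨(e * Matrix.SpecialLinearGroup.toGL g * e⁻¹ : (Matrix (Fin n) (Fin n) F)ˣ), ?_⟩, Units.ext rfl⟩
    rw [Units.val_mul, Units.val_mul, Matrix.det_mul, Matrix.det_mul, mul_right_comm, ← Matrix.det_mul, Units.mul_inv,
      Matrix.det_one, one_mul]
    exact g.2

end Cfsg.Agent.H901.KKL
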