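import Cfsg.Agent.H901.KKL.MinIdem
import Cfsg.Agent.H613.KKL.Defs

/-!
# S4546, classical groups of odd characteristic: the sign elements (helper901, after a remark of helper580)

`D₀ ≅ 2³` in a group `X` of units of a finite ring `R` of odd characteristic, `y₀` a 7-element transitive on the
involutions of `D₀`, `x₀` centralizes `D₀`.  The minimal idempotents `r` of the commutative subring generated by
`D₀`: the orbit of one of them under `y₀` has at least 7 elements, `1 - 2r` are the sign elements.  If they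
normalise `X`, all products of two of them lie in `X`.
-/

set_option autoImplicit false

open Cfsg Cfsg.Agent.H613.KKL

namespace Cfsg.Agent.H901.KKL

section
variable {R : Type*} [Ring R] {X : Type*} [Group X] (φ : X →* Rˣ)

/-- the subring generated by `D₀` -/
def sub (D₀ : Subgroup X) : Subring R := Subring.closure ((fun g : X => (φ g : R)) '' D₀)

theorem mem_sub {D₀ : Subgroup X} {d : X} (hd : d ∈ D₀) : (φ d : R) ∈ sub φ D₀ :=
  Subring.subset_closure ⟨d, hd, rfl⟩

theorem comm_of {D₀ : Subgroup X} {r : R} (hr : ∀ d ∈ D₀, (φ d : R) * r = r * φ d) :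
    ∀ a ∈ sub φ D₀, a * r = r * a := by
  intro a ha
  have h1 : sub φ D₀ ≤ Subring.centralizer {r} := by
    rw [sub, Subring.closure_le]
    rintro _ ⟨d, hd, rfl⟩
    rw [SetLike.mem_coe, Subring.mem_centralizer_iff]
    intro g hg
    rw [Set.mem_singleton_iff.1 hg]
    exact (hr d hd).symm
  exact ((Subring.mem_centralizer_iff.1 (h1 ha)) r rfl).symm

theorem e8_comm {D₀ : Subgroup X} (h8 : E8 D₀) {a b : X} (ha : a ∈ D₀) (hb : b ∈ D₀) : a * b = b * a := by
  have h1 := h8.inv _ (D₀.mul_mem ha hb)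
  have h2 := h8.inv a ha
  have h3 := h8.inv b hb
  calc a * b = (a * b) * ((b * a) * (b * a))  := by rw [h8.inv _ (D₀.mul_mem hb ha), mul_one]
    _ = a * (b * b) * a * (b * a) := by simp only [mul_assoc]
    _ = b * a := by rw [h3, mul_one, h2, one_mul]

theorem sub_comm {D₀ : Subgroup X} (h8 : E8 D₀) : ∀ a ∈ sub φ D₀, ∀ b ∈ sub φ D₀, a * b = b * a := by
  intro a ha b hb
  refine comm_of φ ?_ a ha
  intro d hd
  refine (comm_of φ ?_ b hb).symm
  intro d' hd'
  have := e8_comm h8 hd' hd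
  rw [← Units.val_mul, ← Units.val_mul, ← map_mul, ← map_mul, this]

theorem conj_mem {D₀ : Subgroup X} {y : X} (hy : ∀ d : X, y * d * y⁻¹ ∈ D₀ ↔ d ∈ D₀) {c : R}
    (hc : c ∈ sub φ D₀) : (φ y : R) * c * ((φ y)⁻¹ : Rˣ) ∈ sub φ D₀ := by
  induction hc using Subring.closure_induction with
  | mem c hc =>
    obtain ⟨d, hd, rfl⟩ := hc
    have h1 := mem_sub φ ((hy d).2 hd)
    rw [map_mul, map_mul, map_inv, Units.val_mul, Units.val_mul] at h1
    exact h1
  | zero => rw [mul_zero, zero_mul]; exact (sub φ D₀).zero_mem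
  | one => rw [mul_one, Units.mul_inv]; exact (sub φ D₀).one_mem
  | add a b _ _ ha hb => rw [mul_add, add_mul]; exact (sub φ D₀).add_mem ha hb
  | neg a _ ha => rw [mul_neg, neg_mul]; exact (sub φ D₀).neg_mem ha
  | mul a b _ _ ha hb =>
    have h1 : (φ y : R) * (a * b) * ((φ y)⁻¹ : Rˣ) =
        ((φ y : R) * a * ((φ y)⁻¹ : Rˣ)) * ((φ y : R) * b * ((φ y)⁻¹ : Rˣ)) := by
      calc (φ y : R) * (a * b) * ((φ y)⁻¹ : Rˣ) = (φ y : R) * a * (1 * b) * ((φ y)⁻¹ : Rˣ) := by
            rw [one_mul]; simp only [mul_assoc]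
        _ = (φ y : R) * a * ((((φ y)⁻¹ : Rˣ) * (φ y : R)) * b) * ((φ y)⁻¹ : Rˣ) := by rw [Units.inv_mul]
        _ = _ := by simp only [mul_assoc]
    rw [h1]
    exact (sub φ D₀).mul_mem ha hb

end

/-- conjugation of minimal idempotents -/
theorem IsMin.conj {R : Type*} [Ring R] {C : Subring R} {u : Rˣ} (hu : ∀ c ∈ C, (u : R) * c * (u⁻¹ : Rˣ) ∈ C)
    (hu' : ∀ c ∈ C, ((u⁻¹ : Rˣ) : R) * c * u ∈ C) {p : R} (hp : IsMin C p) : IsMin C ((u : R) * p * (u⁻¹ : Rˣ)) := by
  have key : ∀ a b : R, ((u : R) * a * (u⁻¹ : Rˣ)) * ((u : R) * b * (u⁻¹ : Rˣ)) = (u : R) * (a * b) * (u⁻¹ : Rˣ) := by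
    intro a b
    calc ((u : R) * a * (u⁻¹ : Rˣ)) * ((u : R) * b * (u⁻¹ : Rˣ))
          = (u : R) * a * (((u⁻¹ : Rˣ) * (u : R)) * b) * (u⁻¹ : Rˣ) := by simp only [mul_assoc]
      _ = _ := by rw [Units.inv_mul, one_mul]; simp only [mul_assoc]
  have inj : ∀ a b : R, (u : R) * a * (u⁻¹ : Rˣ) = (u : R) * b * (u⁻¹ : Rˣ) → a = b := by
    intro a b h
    have h1 : ((u⁻¹ : Rˣ) : R) * ((u : R) * a * (u⁻¹ : Rˣ)) * u = ((u⁻¹ : Rˣ) : R) * ((u : R) * b * (u⁻¹ : Rˣ)) * u := by
      rw [h]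
    simpa only [← mul_assoc, Units.inv_mul, one_mul, Units.inv_mul_cancel_right] using h1
  have back : ∀ r : R, (u : R) * (((u⁻¹ : Rˣ) : R) * r * u) * (u⁻¹ : Rˣ) = r := by
    intro r
    rw [← mul_assoc, ← mul_assoc, Units.mul_inv, one_mul, Units.mul_inv_cancel_right]
  refine ⟨hu _ hp.mem, fun h => hp.ne (inj p 0 (by rw [h, mul_zero, zero_mul])), by rw [key, hp.idem], ?_⟩
  intro r hr hrr hrp hr0
  rw [← back r] at hrr hrp hr0 ⊢
  rw [key] at hrr hrp
  rw [hp.min _ (hu' r hr) (inj _ _ hrr) (inj _ _ hrp) (fun h => hr0 (by rw [h, mul_zero, zero_mul]))]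

section
variable {R : Type*} [Ring R] {X : Type*} [Group X] (φ : X →* Rˣ)

theorem exists_half {p : ℕ} [Fact p.Prime] [CharP R p] (hp : p ≠ 2) (C : Subring R) : ∃ h ∈ C, h + h = 1 := by
  refine ⟨(((p + 1) / 2 : ℕ) : R), natCast_mem C _, ?_⟩
  have h1 : (p + 1) / 2 + (p + 1) / 2 = p + 1 := by
    have := (Nat.Prime.eq_two_or_odd (Fact.out : p.Prime)).resolve_left hp
    omega
  rw [← Nat.cast_add, h1, Nat.cast_add, CharP.cast_eq_zero, zero_add, Nat.cast_one]

theorem neg_ne {h : R} (h2 : h + h = 1) {r : R} (hr : r = -r) : r = 0 := by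
  have h1 : r + r = 0 := by nth_rewrite 1 [hr]; exact neg_add_cancel r
  calc r = (h + h) * r := by rw [h2, one_mul]
    _ = h * (r + r) := by rw [add_mul, mul_add]
    _ = 0 := by rw [h1, mul_zero]

/-- an orbit of at least seven minimal idempotents -/
theorem exists_orbit [Finite R] (hφ : Function.Injective φ) {p : ℕ} [Fact p.Prime] [CharP R p] (hp : p ≠ 2)
    {D₀ : Subgroup X} {y₀ : X} (h8 : E8 D₀) (hy : Seven D₀ y₀) :
    ∃ O : Set R, 7 ≤ O.ncard ∧ (∀ r ∈ O, IsMin (sub φ D₀) r) ∧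
      ∀ r ∈ O, ∀ s ∈ O, ∃ g : X, (φ g : R) * r * ((φ g)⁻¹ : Rˣ) = s := by
  obtain ⟨h, hh, h2⟩ := exists_half (R := R) hp (sub φ D₀)
  have hC := sub_comm φ h8
  have hnt : ∃ a ∈ D₀, a ≠ 1 := by
    by_contra hcon
    push Not at hcon
    have h1 : D₀ = ⊥ := (Subgroup.eq_bot_iff_forall _).2 hcon
    have h3 := h8.card
    rw [h1, Subgroup.card_bot] at h3
    omega
  obtain ⟨a, ha, ha1⟩ := hnt
  have hab : ∃ b ∈ D₀, b ≠ 1 ∧ b ≠ a := by
    by_contra hcon
    push Not at hcon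
    have h1 : (D₀ : Set X) ⊆ {1, a} := by
      intro b hb
      by_cases hb1 : b = 1
      · exact Or.inl hb1
      · exact Or.inr (hcon b hb hb1)
    have h3 := Set.ncard_le_ncard h1 (Set.toFinite _)
    have h4 := Set.ncard_insert_le (1 : X) {a}
    rw [Set.ncard_singleton] at h4
    have h5 : (D₀ : Set X).ncard = 8 := by rw [← h8.card]; rfl
    omega
  obtain ⟨b, hb, hb1, hba⟩ := hab
  -- the idempotent `(1 - a) / 2`
  have hsq : ∀ d ∈ D₀, (φ d : R) * φ d = 1 := by
    intro d hd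
    rw [← Units.val_mul, ← map_mul, h8.inv d hd, map_one, Units.val_one]
  have hha := hC h hh _ (mem_sub φ ha)
  have haa := hsq a ha
  have hq0 : h * (1 - φ a) ≠ 0 := by
    intro h0
    have h3 : (1 : R) - φ a = 0 := by
      calc (1 : R) - φ a = (h + h) * (1 - φ a) := by rw [h2, one_mul]
        _ = 0 := by rw [add_mul, h0, add_zero]
    refine ha1 (hφ (Units.ext ?_))
    rw [map_one, Units.val_one]
    exact (sub_eq_zero.1 h3).symm
  have hqm : h * (1 - φ a) ∈ sub φ D₀ :=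
    (sub φ D₀).mul_mem hh ((sub φ D₀).sub_mem (sub φ D₀).one_mem (mem_sub φ ha))
  have hhh : h * h + h * h = h := by rw [← mul_add, h2, mul_one]
  have hqq : h * (1 - φ a) * (h * (1 - φ a)) = h * (1 - φ a) := by
    have e1 : ((1 : R) - φ a) * (1 - φ a) = (1 - φ a) + (1 - φ a) := by
      rw [mul_sub, mul_one, sub_mul, one_mul, haa]; abel
    have e2 := hC h hh _ ((sub φ D₀).sub_mem (sub φ D₀).one_mem (mem_sub φ ha))
    calc h * (1 - φ a) * (h * (1 - φ a)) = h * ((1 - φ a) * h) * (1 - φ a) := by simp only [mul_assoc]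
      _ = h * h * ((1 - φ a) * (1 - φ a)) := by rw [← e2]; simp only [mul_assoc]
      _ = (h * h + h * h) * (1 - φ a) := by rw [e1, mul_add, add_mul]
      _ = _ := by rw [hhh]
  obtain ⟨r, hr, hrq⟩ := exists_isMin hC _ _ hqm hq0 hqq le_rfl
  have har : (φ a : R) * r = -r := by
    have h3 : (φ a : R) * (h * (1 - φ a)) = -(h * (1 - φ a)) := by
      rw [← mul_assoc, ← hha, mul_assoc, mul_sub, haa, mul_one, ← mul_neg, neg_sub]
    have h4 : r = h * (1 - φ a) * r := by rw [hC _ hqm _ hr.mem, hrq]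
    calc (φ a : R) * r = φ a * (h * (1 - φ a)) * r := by nth_rewrite 1 [h4]; simp only [mul_assoc]
      _ = -r := by rw [h3, neg_mul, ← h4]
  -- the action of the powers of `y₀`
  have hyk : ∀ k : ℕ, ∀ d : X, y₀ ^ k * d * (y₀ ^ k)⁻¹ ∈ D₀ ↔ d ∈ D₀ := by
    intro k
    induction k with
    | zero => intro d; rw [pow_zero, one_mul, inv_one, mul_one]
    | succ k ih =>
      intro d
      have h3 : y₀ ^ (k + 1) * d * (y₀ ^ (k + 1))⁻¹ = y₀ ^ k * (y₀ * d * y₀⁻¹) * (y₀ ^ k)⁻¹ := by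
        rw [pow_succ]; group
      rw [h3, ih, hy.norm]
  have hyn : ∀ g ∈ Subgroup.zpowers y₀, ∀ d : X, g * d * g⁻¹ ∈ D₀ ↔ d ∈ D₀ := by
    have h3 : Subgroup.zpowers y₀ ≤ Subgroup.normalizer (D₀ : Set X) := by
      rw [Subgroup.zpowers_le, Subgroup.mem_normalizer_iff]
      intro d
      exact (hy.norm d).symm
    intro g hg d
    exact ((Subgroup.mem_normalizer_iff.1 (h3 hg)) d).symm
  let act : MulAction (Subgroup.zpowers y₀) R :=
    MulAction.compHom R (ConjAct.toConjAct.toMonoidHom.comp (φ.comp (Subgroup.zpowers y₀).subtype))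
  have hact : ∀ (g : Subgroup.zpowers y₀) (s : R), g • s = (φ (g : X) : R) * s * ((φ (g : X))⁻¹ : Rˣ) := by
    intro g s
    show ConjAct.toConjAct (φ (g : X)) • s = _
    rw [ConjAct.units_smul_def]
    rfl
  obtain ⟨m, hm⟩ := hy.seven
  have h7 : Fact (Nat.Prime 7) := ⟨by norm_num⟩
  have hpg : IsPGroup 7 (Subgroup.zpowers y₀) := by
    rw [IsPGroup.iff_orderOf]
    intro g
    have h3 : orderOf g ∣ 7 ^ m := by
      obtain ⟨k, hk⟩ := g.2
      rw [← Subgroup.orderOf_coe, ← hk, ← hm]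
      exact orderOf_dvd_of_pow_eq_one (by
        show (y₀ ^ k) ^ orderOf y₀ = 1
        rw [← zpow_natCast, ← zpow_mul, mul_comm, zpow_mul, zpow_natCast, pow_orderOf_eq_one, one_zpow])
    exact (Nat.dvd_prime_pow (by norm_num)).1 h3 |>.imp fun _ hk => hk.2
  refine ⟨MulAction.orbit (Subgroup.zpowers y₀) r, ?_, ?_, ?_⟩
  · have : Finite (MulAction.orbit (Subgroup.zpowers y₀) r) := inferInstance
    obtain ⟨n, hn⟩ := hpg.card_orbit r
    have hn' : (MulAction.orbit (Subgroup.zpowers y₀) r).ncard = 7 ^ n := hn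
    rw [hn']
    rcases Nat.eq_zero_or_pos n with rfl | hn0
    · exfalso
      rw [pow_zero, Set.ncard_eq_one] at hn'
      obtain ⟨s, hs⟩ := hn'
      have h3 : r ∈ ({s} : Set R) := hs ▸ MulAction.mem_orbit_self r
      have h4 : ∀ g : Subgroup.zpowers y₀, g • r = r := by
        intro g
        have h5 : g • r ∈ ({s} : Set R) := hs ▸ MulAction.mem_orbit r g
        rw [Set.mem_singleton_iff.1 h5, Set.mem_singleton_iff.1 h3]
      -- every nontrivial element of `D₀` acts as `-1`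
      have h5 : ∀ c ∈ D₀, c ≠ 1 → (φ c : R) * r = -r := by
        intro c hc hc1
        obtain ⟨k, hk⟩ := hy.trans a ha ha1 c hc hc1
        have h6 := h4 ⟨y₀ ^ k, ⟨(k : ℤ), by simp⟩⟩
        rw [hact] at h6
        simp only at h6
        have h7' : (φ c : R) = (φ (y₀ ^ k) : R) * φ a * ((φ (y₀ ^ k))⁻¹ : Rˣ) := by
          rw [← hk, map_mul, map_mul, map_inv, Units.val_mul, Units.val_mul]
        calc (φ c : R) * r = (φ (y₀ ^ k) : R) * φ a * ((φ (y₀ ^ k))⁻¹ : Rˣ) *
              ((φ (y₀ ^ k) : R) * r * ((φ (y₀ ^ k))⁻¹ : Rˣ)) := by rw [h7', h6]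
          _ = (φ (y₀ ^ k) : R) * φ a * ((((φ (y₀ ^ k))⁻¹ : Rˣ) * (φ (y₀ ^ k) : R)) * r) * ((φ (y₀ ^ k))⁻¹ : Rˣ) := by
              simp only [mul_assoc]
          _ = (φ (y₀ ^ k) : R) * (φ a * r) * ((φ (y₀ ^ k))⁻¹ : Rˣ) := by
              rw [Units.inv_mul, one_mul]; simp only [mul_assoc]
          _ = -r := by rw [har, mul_neg, neg_mul, h6]
      have h6 := h5 b hb hb1
      have hab1 : a * b ≠ 1 := fun h => hba (by
        have := eq_inv_of_mul_eq_one_right h
        rw [this]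
        exact inv_eq_of_mul_eq_one_right (h8.inv a ha))
      have h7' := h5 (a * b) (D₀.mul_mem ha hb) hab1
      rw [map_mul, Units.val_mul, mul_assoc, h6, mul_neg, har, neg_neg] at h7'
      exact hr.ne (neg_ne h2 h7')
    · calc 7 = 7 ^ 1 := (pow_one 7).symm
        _ ≤ 7 ^ n := Nat.pow_le_pow_right (by norm_num) hn0
  · rintro _ ⟨g, rfl⟩
    show IsMin _ (g • r)
    rw [hact]
    refine hr.conj (fun c hc => conj_mem φ (hyn g g.2) hc) (fun c hc => ?_)
    have h3 := conj_mem φ (y := (g : X)⁻¹) (hyn _ (inv_mem g.2)) hc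
    rw [map_inv, inv_inv] at h3
    exact h3
  · rintro s hs s' hs'
    have h3 : s' ∈ MulAction.orbit (Subgroup.zpowers y₀) s := by
      rw [MulAction.orbit_eq_iff.2 hs]; exact hs'
    obtain ⟨g, hg⟩ := h3
    refine ⟨g, ?_⟩
    rw [← hact]
    exact hg

/-- the exponent 2 group of all `t ∈ X` with `φ t` in the subring generated by `D₀` -/
def TT (hφ : Function.Injective φ) {D₀ : Subgroup X} (h8 : E8 D₀) : Subgroup X where
  carrier := {t | (φ t : R) ∈ sub φ D₀ ∧ t * t = 1}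
  one_mem' := ⟨by rw [map_one, Units.val_one]; exact (sub φ D₀).one_mem, one_mul 1⟩
  mul_mem' := by
    rintro a b ⟨ha, ha2⟩ ⟨hb, hb2⟩
    refine ⟨by rw [map_mul, Units.val_mul]; exact (sub φ D₀).mul_mem ha hb, ?_⟩
    have hab : a * b = b * a := hφ (Units.ext (by
      rw [map_mul, map_mul, Units.val_mul, Units.val_mul]; exact sub_comm φ h8 _ ha _ hb))
    calc a * b * (a * b) = a * (b * a) * b := by simp only [mul_assoc]
      _ = (a * a) * (b * b) := by rw [← hab]; simp only [mul_assoc]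
      _ = 1 := by rw [ha2, hb2, one_mul]
  inv_mem' := by
    rintro a ⟨ha, ha2⟩
    have h1 : a⁻¹ = a := inv_eq_of_mul_eq_one_right ha2
    rw [Set.mem_ofPred_eq, h1]
    exact ⟨ha, ha2⟩

theorem isPGroup_TT (hφ : Function.Injective φ) {D₀ : Subgroup X} (h8 : E8 D₀) : IsPGroup 2 (TT φ hφ h8) := by
  intro t
  refine ⟨1, Subtype.ext ?_⟩
  rw [pow_one, pow_two]
  exact t.2.2

theorem sum_mul_mem {O : Finset R} {C : Subring R} (hC : ∀ a ∈ C, ∀ b ∈ C, a * b = b * a)
    (hO : ∀ r ∈ O, IsMin C r) {A : Finset R} (hA : A ⊆ O) {s : R} (hs : s ∈ O) :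
    (s ∈ A → (∑ r ∈ A, r) * s = s) ∧ (s ∉ A → (∑ r ∈ A, r) * s = 0) := by
  constructor
  · intro hsA
    rw [Finset.sum_mul, Finset.sum_eq_single s, (hO s hs).idem]
    · intro r hr hne
      exact (hO r (hA hr)).orth hC (hO s hs) hne
    · intro h; exact absurd hsA h
  · intro hsA
    rw [Finset.sum_mul, Finset.sum_eq_zero]
    intro r hr
    refine (hO r (hA hr)).orth hC (hO s hs) ?_
    rintro rfl
    exact hsA hr

/-- **the engine**: no configuration whose lift lies in `X`, if the involutions of the subring generated by `D₀`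
normalise `X` -/
theorem engine [Finite R] (hφ : Function.Injective φ) {p : ℕ} [Fact p.Prime] [CharP R p] (hp : p ≠ 2)
    {S : Type*} [Group S] (π : X →* S) (hker : π.ker ≤ Subgroup.center X)
    {D₀ : Subgroup X} {x₀ y₀ : X} (h8 : E8 D₀) (hx : ∀ d ∈ D₀, d * x₀ = x₀ * d) (hy : Seven D₀ y₀)
    (hnorm : ∀ e : Rˣ, e * e = 1 → (e : R) ∈ Subring.closure ((fun g : X => (φ g : R)) '' D₀) →
      ∀ g : X, ∃ g' : X, φ g' = e * φ g * e⁻¹)
    {D : Subgroup S} (hc : Cfg0 D (π x₀)) : False := by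
  classical
  obtain ⟨O', hO7, hOm, hOt⟩ := exists_orbit φ hφ hp h8 hy
  have hC := sub_comm φ h8
  obtain ⟨h, hh, h2⟩ := exists_half (R := R) hp (sub φ D₀)
  let O : Finset R := (Set.toFinite O').toFinset
  have hmO : ∀ r, r ∈ O ↔ r ∈ O' := fun r => Set.Finite.mem_toFinset _
  have hO7' : 7 ≤ O.card := by rw [Set.ncard_eq_toFinset_card O' (Set.toFinite O')] at hO7; exact hO7
  have hOm' : ∀ r ∈ O, IsMin (sub φ D₀) r := fun r hr => hOm r ((hmO r).1 hr)
  -- the elements `1 - 2r`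
  have hinv : ∀ r : R, r * r = r → (1 - (r + r)) * (1 - (r + r)) = 1 := by
    intro r hr
    rw [mul_sub, mul_one, sub_mul, one_mul, add_mul, mul_add, hr]
    abel
  have hsgn : ∀ r ∈ O, ∃ e : Rˣ, (e : R) = 1 - (r + r) ∧ e * e = 1 := by
    intro r hr
    have h1 := hinv r (hOm' r hr).idem
    exact ⟨⟨1 - (r + r), 1 - (r + r), h1, h1⟩, rfl, Units.ext h1⟩
  -- the products of two of them
  have hpair : ∀ r ∈ O, ∀ s ∈ O, r ≠ s → ∃ t : X, (φ t : R) = 1 - ((r + s) + (r + s)) ∧ t ∈ TT φ hφ h8 := by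
    intro r hr s hs hrs
    obtain ⟨e, he, hee⟩ := hsgn r hr
    obtain ⟨g, hg⟩ := hOt r ((hmO r).1 hr) s ((hmO s).1 hs)
    have hem : (e : R) ∈ sub φ D₀ := by
      rw [he]
      exact (sub φ D₀).sub_mem (sub φ D₀).one_mem ((sub φ D₀).add_mem (hOm' r hr).mem (hOm' r hr).mem)
    obtain ⟨g', hg'⟩ := hnorm e hee hem g
    have he' : e⁻¹ = e := inv_eq_of_mul_eq_one_right hee
    have h1 : (φ (g' * g⁻¹) : R) = 1 - ((r + s) + (r + s)) := by
      rw [map_mul, map_inv, hg', he', Units.val_mul, Units.val_mul, Units.val_mul, he]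
      have h3 : (φ g : R) * (1 - (r + r)) * ((φ g)⁻¹ : Rˣ) = 1 - (s + s) := by
        rw [mul_sub, sub_mul, mul_one, Units.mul_inv, mul_add, add_mul, hg]
      rw [mul_assoc, mul_assoc, ← mul_assoc (φ g : R), h3]
      have h4 : r * s = 0 := (hOm' r hr).orth hC (hOm' s hs) hrs
      rw [mul_sub, mul_one, mul_add, sub_mul, one_mul, add_mul, h4, add_zero, sub_zero]
      abel
    refine ⟨g' * g⁻¹, h1, ?_, ?_⟩
    · rw [h1]
      have h5 := (sub φ D₀).add_mem (hOm' r hr).mem (hOm' s hs).mem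
      exact (sub φ D₀).sub_mem (sub φ D₀).one_mem ((sub φ D₀).add_mem h5 h5)
    · apply hφ
      apply Units.ext
      rw [map_mul, Units.val_mul, h1, map_one, Units.val_one]
      apply hinv
      have h4 : r * s = 0 := (hOm' r hr).orth hC (hOm' s hs) hrs
      have h4' : s * r = 0 := (hOm' s hs).orth hC (hOm' r hr) hrs.symm
      rw [mul_add, add_mul, add_mul, h4, h4', (hOm' r hr).idem, (hOm' s hs).idem]
      abel
  have hset : ∀ A : ↥(O.powersetCard 2), ∃ t : X, (φ t : R) = 1 - ((∑ r ∈ A.1, r) + (∑ r ∈ A.1, r)) ∧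
      t ∈ TT φ hφ h8 := by
    intro A
    obtain ⟨hA, hA2⟩ := Finset.mem_powersetCard.1 A.2
    obtain ⟨r, s, hrs, hA'⟩ := Finset.card_eq_two.1 hA2
    rw [hA', Finset.sum_pair hrs]
    have hr : r ∈ O := hA (by rw [hA']; simp)
    have hs : s ∈ O := hA (by rw [hA']; simp)
    exact hpair r hr s hs hrs
  choose t ht htT using hset
  have hact : ∀ (A : ↥(O.powersetCard 2)), ∀ s ∈ O, (s ∈ A.1 → (φ (t A) : R) * s = -s) ∧
      (s ∉ A.1 → (φ (t A) : R) * s = s) := by
    intro A s hs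
    have hA := (Finset.mem_powersetCard.1 A.2).1
    have h1 := sum_mul_mem hC hOm' hA hs
    constructor
    · intro hsA
      rw [ht, sub_mul, one_mul, add_mul, h1.1 hsA]
      abel
    · intro hsA
      rw [ht, sub_mul, one_mul, add_mul, h1.2 hsA, add_zero, sub_zero]
  -- injectivity modulo the centre
  have hinj : Function.Injective (fun A : ↥(O.powersetCard 2) => π (t A)) := by
    intro A B hAB
    have hz : (t A)⁻¹ * t B ∈ Subgroup.center X := hker (by
      rw [MonoidHom.mem_ker, map_mul, map_inv]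
      simp only at hAB
      rw [hAB, inv_mul_cancel])
    have hA2 : A.1.card = 2 := (Finset.mem_powersetCard.1 A.2).2
    have hB2 : B.1.card = 2 := (Finset.mem_powersetCard.1 B.2).2
    obtain ⟨u, huO, huA⟩ : ∃ u ∈ O, u ∉ A.1 ∪ B.1 := by
      by_contra hcon
      push Not at hcon
      have h3 := Finset.card_le_card (show O ⊆ A.1 ∪ B.1 from hcon)
      have h4 := Finset.card_union_le A.1 B.1
      omega
    rw [Finset.mem_union, not_or] at huA
    have hu1 := (hact A u huO).2 huA.1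
    have hu2 := (hact B u huO).2 huA.2
    have hzz : ∀ s ∈ O, (φ ((t A)⁻¹ * t B) : R) * s = s := by
      have h5 : (φ ((t A)⁻¹ * t B) : R) * u = u := by
        rw [map_mul, Units.val_mul, mul_assoc, hu2, map_inv]
        nth_rewrite 1 [← hu1]
        rw [← mul_assoc, Units.inv_mul, one_mul]
      intro s hs
      obtain ⟨g, hg⟩ := hOt u ((hmO u).1 huO) s ((hmO s).1 hs)
      have h6 : (φ ((t A)⁻¹ * t B) : R) * φ g = φ g * φ ((t A)⁻¹ * t B) := by
        rw [← Units.val_mul, ← Units.val_mul, ← map_mul, ← map_mul, (Subgroup.mem_center_iff.1 hz g)]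
      rw [← hg, ← mul_assoc, ← mul_assoc, h6, mul_assoc (φ g : R), h5]
    have hAB' : ∀ s ∈ O, (φ (t B) : R) * s = φ (t A) * s := by
      intro s hs
      have h7 := hzz s hs
      have h8' : t B = t A * ((t A)⁻¹ * t B) := by group
      rw [h8', map_mul, Units.val_mul, mul_assoc, h7]
    have hsub : ∀ A B : ↥(O.powersetCard 2), (∀ s ∈ O, (φ (t B) : R) * s = φ (t A) * s) → A.1 ⊆ B.1 := by
      intro A B hAB s hs
      by_contra hsB
      have hsO := (Finset.mem_powersetCard.1 A.2).1 hs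
      have h9 := hAB s hsO
      rw [(hact A s hsO).1 hs, (hact B s hsO).2 hsB] at h9
      exact (hOm' s hsO).ne (neg_ne h2 h9)
    exact Subtype.ext (Finset.Subset.antisymm (hsub A B hAB') (hsub B A fun s hs => (hAB' s hs).symm))
  -- the 2-group
  have hcx : ∀ q ∈ (TT φ hφ h8).map π, q * π x₀ = π x₀ * q := by
    rintro _ ⟨q, hq, rfl⟩
    rw [← map_mul, ← map_mul]
    congr 1
    apply hφ
    apply Units.ext
    rw [map_mul, map_mul, Units.val_mul, Units.val_mul]
    refine comm_of φ ?_ _ hq.1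
    intro d hd
    rw [← Units.val_mul, ← Units.val_mul, ← map_mul, ← map_mul, hx d hd]
  obtain ⟨c, hcx', hcD⟩ := hc.syl _ ((isPGroup_TT φ hφ h8).map π) hcx
  have hle : Nat.card ↥((TT φ hφ h8).map π) ≤ 8 := by
    rw [← hc.e8.card]
    have : Finite D := Nat.finite_of_card_ne_zero (by rw [hc.e8.card]; norm_num)
    refine Nat.card_le_card_of_injective (fun q => (⟨c * q.1 * c⁻¹, hcD q.1 q.2⟩ : D)) ?_
    intro q q' hqq
    have := congrArg Subtype.val hqq
    simp only at this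
    exact Subtype.ext (mul_left_cancel (mul_right_cancel this))
  have hge : 21 ≤ Nat.card ↥((TT φ hφ h8).map π) := by
    have : Finite ↥((TT φ hφ h8).map π) := by
      have : Finite D := Nat.finite_of_card_ne_zero (by rw [hc.e8.card]; norm_num)
      refine Finite.of_injective (fun q => (⟨c * q.1 * c⁻¹, hcD q.1 q.2⟩ : D)) ?_
      intro q q' hqq
      have := congrArg Subtype.val hqq
      simp only at this
      exact Subtype.ext (mul_left_cancel (mul_right_cancel this))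
    have h10 : Nat.card ↥(O.powersetCard 2) ≤ Nat.card ↥((TT φ hφ h8).map π) := by
      refine Nat.card_le_card_of_injective
        (fun A => (⟨π (t A), ⟨t A, htT A, rfl⟩⟩ : ↥((TT φ hφ h8).map π))) ?_
      intro A B hAB
      exact hinj (congrArg Subtype.val hAB)
    refine le_trans ?_ h10
    rw [Nat.card_eq_fintype_card, Fintype.card_coe, Finset.card_powersetCard]
    calc 21 = Nat.choose 7 2 := by decide
      _ ≤ Nat.choose O.card 2 := Nat.choose_le_choose 2 hO7'
  omega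

end

end Cfsg.Agent.H901.KKL
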