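import Mathlib

/-!
# S4546: minimal idempotents of a finite commutative subring (helper901)

`IsMin C p`: `p` is a nonzero idempotent of the subring `C` (with commuting elements) and minimal with this
property.
-/

set_option autoImplicit false

namespace Cfsg.Agent.H901.KKL

variable {R : Type*} [Ring R] {C : Subring R}

/-- `p` is a minimal nonzero idempotent of `C` -/
structure IsMin (C : Subring R) (p : R) : Prop where
  mem : p ∈ C
  ne : p ≠ 0
  idem : p * p = p
  min : ∀ r ∈ C, r * r = r → r * p = r → r ≠ 0 → r = p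

theorem exists_isMin [Finite R] (hC : ∀ a ∈ C, ∀ b ∈ C, a * b = b * a) :
    ∀ (n : ℕ) (q : R), q ∈ C → q ≠ 0 → q * q = q → {r : R | r ∈ C ∧ r * r = r ∧ r * q = r}.ncard ≤ n →
      ∃ p, IsMin C p ∧ p * q = p := by
  intro n
  induction n with
  | zero =>
    intro q hq hq0 hqq hn
    exfalso
    have h1 : {r : R | r ∈ C ∧ r * r = r ∧ r * q = r} = ∅ := by
      rw [← Set.ncard_eq_zero (Set.toFinite _)]
      omega
    have h2 : q ∈ {r : R | r ∈ C ∧ r * r = r ∧ r * q = r} := ⟨hq, hqq, hqq⟩
    rw [h1] at h2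
    exact h2
  | succ n ih =>
    intro q hq hq0 hqq hn
    by_cases hm : ∀ r ∈ C, r * r = r → r * q = r → r ≠ 0 → r = q
    · exact ⟨q, ⟨hq, hq0, hqq, hm⟩, hqq⟩
    · push Not at hm
      obtain ⟨r, hr, hrr, hrq, hr0, hne⟩ := hm
      have hsub : {s : R | s ∈ C ∧ s * s = s ∧ s * r = s} ⊂ {s : R | s ∈ C ∧ s * s = s ∧ s * q = s} := by
        refine ⟨fun s hs => ⟨hs.1, hs.2.1, ?_⟩, fun h => ?_⟩
        · calc s * q = s * r * q := by rw [hs.2.2]
            _ = s * (r * q) := mul_assoc _ _ _
            _ = s := by rw [hrq, hs.2.2]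
        · have h1 := (h (show q ∈ {s : R | s ∈ C ∧ s * s = s ∧ s * q = s} from ⟨hq, hqq, hqq⟩)).2.2
          exact hne (by rw [← h1, ← hrq, hC r hr q hq, ← mul_assoc, hqq])
      obtain ⟨p, hp, hpr⟩ := ih r hr hr0 hrr (by
        have := Set.ncard_lt_ncard hsub (Set.toFinite _)
        omega)
      refine ⟨p, hp, ?_⟩
      rw [← hpr, mul_assoc, hrq]

theorem IsMin.orth (hC : ∀ a ∈ C, ∀ b ∈ C, a * b = b * a) {p p' : R} (hp : IsMin C p) (hp' : IsMin C p')
    (hne : p ≠ p') : p * p' = 0 := by
  by_contra h0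
  have hcom := hC p hp.mem p' hp'.mem
  have hmem : p * p' ∈ C := C.mul_mem hp.mem hp'.mem
  have hid : p * p' * (p * p') = p * p' := by
    calc p * p' * (p * p') = p * (p' * p) * p' := by simp only [mul_assoc]
      _ = p * (p * p') * p' := by rw [hcom]
      _ = (p * p) * (p' * p') := by simp only [mul_assoc]
      _ = p * p' := by rw [hp.idem, hp'.idem]
  have h1 := hp.min _ hmem hid (by
    calc p * p' * p = p * (p' * p) := mul_assoc _ _ _
      _ = p * (p * p') := by rw [hcom]
      _ = p * p' := by rw [← mul_assoc, hp.idem]) h0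
  have h2 := hp'.min _ hmem hid (by rw [mul_assoc, hp'.idem]) h0
  exact hne (h1.symm.trans h2)

/-- involutions of `C` act as `±1` on a minimal idempotent -/
theorem IsMin.sign (hC : ∀ a ∈ C, ∀ b ∈ C, a * b = b * a) {p : R} (hp : IsMin C p) {h : R} (hh : h ∈ C)
    (h2 : h + h = 1) {t : R} (ht : t ∈ C) (htt : t * t = 1) : t * p = p ∨ t * p = -p := by
  have hht := hC h hh t ht
  have hhp := hC h hh p hp.mem
  have htp := hC t ht p hp.mem
  have hhh : h * h + h * h = h := by
    rw [← mul_add, h2, mul_one]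
  by_cases h0 : h * (1 + t) * p = 0
  · right
    have h1 : (h + h) * (1 + t) * p = 0 := by
      rw [add_mul, add_mul, h0, add_zero]
    rw [h2, one_mul, add_mul, one_mul] at h1
    exact (neg_eq_of_add_eq_zero_right h1).symm
  · left
    have h1 := hp.min (h * (1 + t) * p) (C.mul_mem (C.mul_mem hh (C.add_mem C.one_mem ht)) hp.mem) (by
      have e1 : (1 + t) * (1 + t) = (1 + t) + (1 + t) := by
        rw [mul_add, mul_one, add_mul, one_mul, htt, add_comm t 1]
      have e2 := hC (h * (1 + t)) (C.mul_mem hh (C.add_mem C.one_mem ht)) p hp.mem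
      have e3 := hC h hh (1 + t) (C.add_mem C.one_mem ht)
      calc h * (1 + t) * p * (h * (1 + t) * p) = h * (1 + t) * (p * (h * (1 + t))) * p := by
            simp only [mul_assoc]
        _ = h * (1 + t) * (h * (1 + t) * p) * p := by rw [e2]
        _ = h * ((1 + t) * h) * (1 + t) * (p * p) := by simp only [mul_assoc]
        _ = h * (h * (1 + t)) * (1 + t) * p := by rw [hp.idem, e3]
        _ = h * h * ((1 + t) * (1 + t)) * p := by simp only [mul_assoc]
        _ = (h * h + h * h) * (1 + t) * p := by rw [e1, mul_add, ← add_mul (h * h) (h * h)]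
        _ = h * (1 + t) * p := by rw [hhh]) (by rw [mul_assoc, hp.idem]) h0
    calc t * p = t * (h * (1 + t) * p) := by rw [h1]
      _ = t * h * (1 + t) * p := by simp only [mul_assoc]
      _ = h * (t * (1 + t)) * p := by rw [← hht]; simp only [mul_assoc]
      _ = h * (1 + t) * p := by rw [mul_add, mul_one, htt, add_comm t 1]
      _ = p := h1

end Cfsg.Agent.H901.KKL
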