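import Cfsg.Agent.H901.KKL.Engine
import Cfsg.Agent.H544.KKL.Lift

/-!
# S4546, classical groups of odd characteristic: the criterion (helper901; lifting by helper544)
-/

set_option autoImplicit false

open Cfsg Cfsg.Agent.H613.KKL

namespace Cfsg.Agent.H901.KKL

/-- a power of `y` with the same conjugation action and of prime power order -/
theorem exists_pow {X : Type*} [Group X] [Finite X] (y : X) {m : ℕ} (hm : ∀ d : X, y ^ 7 ^ m * d = d * y ^ 7 ^ m) :
    ∃ y₁ c : X, y₁ = y * c ∧ (∀ d : X, c * d = d * c) ∧ ∃ k : ℕ, orderOf y₁ = 7 ^ k := by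
  have hN : orderOf y ≠ 0 := (orderOf_pos y).ne'
  obtain ⟨a, b, hb, hab⟩ := Nat.exists_eq_pow_mul_and_not_dvd hN 7 (by norm_num)
  have hcop : Nat.Coprime (7 ^ (a + m)) b :=
    ((Nat.prime_iff.2 (by exact Nat.prime_iff.1 (by norm_num)) : Nat.Prime 7).coprime_iff_not_dvd.2 hb).pow_left _
  obtain ⟨k, hk1, hk2⟩ := Nat.chineseRemainder hcop 1 0
  have hk1' : (7 ^ (a + m) : ℤ) ∣ (k : ℤ) - 1 := by
    have h := (Nat.modEq_iff_dvd.1 hk1.symm)
    push_cast at h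
    exact h
  obtain ⟨j, hj⟩ := hk1'
  have hb' : b ∣ k := (Nat.modEq_zero_iff_dvd).1 hk2
  refine ⟨y ^ k, y ^ (7 ^ (a + m) * j : ℤ), ?_, ?_, ?_⟩
  · rw [← hj, ← zpow_natCast]
    nth_rewrite 2 [← zpow_one y]
    rw [← zpow_add]
    congr 1
    ring
  · intro d
    have h1 : (y ^ (7 ^ (a + m) * j : ℤ)) = (y ^ 7 ^ m) ^ (7 ^ a * j : ℤ) := by
      rw [← zpow_natCast, ← zpow_mul]
      congr 1
      push_cast
      ring
    rw [h1]
    have h2 : Commute (y ^ 7 ^ m) d := hm d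
    exact (h2.zpow_left _)
  · have h1 : orderOf (y ^ k) ∣ 7 ^ a := by
      rw [orderOf_dvd_iff_pow_eq_one, ← pow_mul]
      obtain ⟨i, rfl⟩ := hb'
      have h3 : b * i * 7 ^ a = orderOf y * i := by rw [hab]; ring
      rw [h3, pow_mul, pow_orderOf_eq_one, one_pow]
    exact ((Nat.dvd_prime_pow (by norm_num)).1 h1).imp fun _ h => h.2

theorem lift {X S : Type*} [Group X] [Finite X] [Group S] {π : X →* S} (hπ : Function.Surjective π)
    (hker : π.ker ≤ Subgroup.center X) (hcyc : IsCyclic π.ker) {D : Subgroup S} {x : S} (hc : Cfg0 D x) :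
    ∃ (D₀ : Subgroup X) (x₀ y₀ : X), E8 D₀ ∧ (∀ d ∈ D₀, d * x₀ = x₀ * d) ∧ π x₀ = x ∧ Seven D₀ y₀ := by
  obtain ⟨y, hy⟩ := hc.seven
  obtain ⟨D₀, y₀, x₀, h8, h2, -, -, hx, hxc, hyD, htr, m, hm⟩ :=
    Cfsg.Agent.H544.KKL.exists_lift hπ hker hcyc hc.e8.card hc.e8.inv hy hc.odd hc.comm
  obtain ⟨y₁, c, rfl, hcc, k, hk⟩ := exists_pow y₀ hm
  have hact : ∀ d : X, y₀ * c * d * (y₀ * c)⁻¹ = y₀ * d * y₀⁻¹ := by
    intro d
    calc y₀ * c * d * (y₀ * c)⁻¹ = y₀ * (c * d) * c⁻¹ * y₀⁻¹ := by group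
      _ = y₀ * d * y₀⁻¹ := by rw [hcc d]; group
  have hact' : ∀ (i : ℕ) (d : X), (y₀ * c) ^ i * d * ((y₀ * c) ^ i)⁻¹ = y₀ ^ i * d * (y₀ ^ i)⁻¹ := by
    intro i d
    have h1 : (y₀ * c) ^ i = y₀ ^ i * c ^ i := (show Commute y₀ c from (hcc y₀).symm).mul_pow i
    have h3 : c ^ i * d = d * c ^ i := (show Commute c d from hcc d).pow_left i
    rw [h1]
    calc y₀ ^ i * c ^ i * d * (y₀ ^ i * c ^ i)⁻¹ = y₀ ^ i * (c ^ i * d) * (c ^ i)⁻¹ * (y₀ ^ i)⁻¹ := by group
      _ = _ := by rw [h3]; group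
  refine ⟨D₀, x₀, y₀ * c, ⟨h8, h2⟩, hxc, hx, ?_, ⟨k, hk⟩, ?_⟩
  · intro d
    rw [hact]
    refine ⟨fun h => ?_, hyD d⟩
    have hfin : Finite D₀ := Nat.finite_of_card_ne_zero (by rw [h8]; norm_num)
    have hinj : Function.Injective (fun d : D₀ => (⟨y₀ * d * y₀⁻¹, hyD d d.2⟩ : D₀)) := by
      intro a b hab
      exact Subtype.ext (mul_left_cancel (mul_right_cancel (congrArg Subtype.val hab)))
    obtain ⟨d', hd'⟩ := (Finite.injective_iff_surjective.1 hinj) ⟨_, h⟩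
    have h3 : (d' : X) = d := mul_left_cancel (mul_right_cancel (congrArg Subtype.val hd'))
    rw [← h3]
    exact d'.2
  · intro a ha ha1 b hb hb1
    obtain ⟨i, hi⟩ := htr a ha ha1 b hb hb1
    exact ⟨i, by rw [hact', hi]⟩

/-- **the criterion**: a group `X` of units of a finite ring of odd characteristic, normalised by the involutions of
the subrings generated by its elementary abelian subgroups of order 8: `X / Z` has no configuration, `Z` cyclic central -/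
theorem noCfg_of_norm {R : Type*} [Ring R] [Finite R] {p : ℕ} [Fact p.Prime] [CharP R p] (hp : p ≠ 2)
    {X S : Type*} [Group X] [Group S] {π : X →* S} (hπ : Function.Surjective π)
    (hker : π.ker ≤ Subgroup.center X) (hcyc : IsCyclic π.ker) (φ : X →* Rˣ) (hφ : Function.Injective φ)
    (hnorm : ∀ D₀ : Subgroup X, E8 D₀ → (∀ a ∈ D₀, ∀ b ∈ D₀, a * b = b * a) → ∀ e : Rˣ, e * e = 1 →
      (e : R) ∈ Subring.closure ((fun g : X => (φ g : R)) '' D₀) → ∀ g : X, ∃ g' : X, φ g' = e * φ g * e⁻¹) :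
    NoCfg S := by
  intro D x hc
  have hX : Finite X := Finite.of_injective φ hφ
  obtain ⟨D₀, x₀, y₀, h8, hx, rfl, hy⟩ := lift hπ hker hcyc hc
  exact engine φ hφ hp π hker h8 hx hy (hnorm D₀ h8 fun a ha b hb => e8_comm h8 ha hb) hc

/-- the commutative subring generated by `D₀`: its elements are fixed by every additive anti-automorphism inverting `X` -/
theorem star_eq {R : Type*} [Ring R] {X : Type*} [Group X] (φ : X →* Rˣ) (σ : R →+ R)
    (hσ : ∀ a b, σ (a * b) = σ b * σ a) (hσ1 : σ 1 = 1) {D₀ : Subgroup X} (h8 : E8 D₀)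
    (hD : ∀ d ∈ D₀, σ (φ d : R) = ((φ d)⁻¹ : Rˣ)) {e : R}
    (he : e ∈ Subring.closure ((fun g : X => (φ g : R)) '' D₀)) : σ e = e := by
  induction he using Subring.closure_induction with
  | mem c hc =>
    obtain ⟨d, hd, rfl⟩ := hc
    simp only
    rw [hD d hd, ← map_inv, inv_eq_of_mul_eq_one_right (h8.inv d hd)]
  | zero => exact map_zero σ
  | one => exact hσ1
  | add a b _ _ ha hb => rw [map_add, ha, hb]
  | neg a _ ha => rw [map_neg, ha]
  | mul a b ha' hb' ha hb =>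
    rw [hσ, ha, hb]
    exact sub_comm φ h8 _ hb' _ ha'

end Cfsg.Agent.H901.KKL
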